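import Mathlib
import Cfsg.Agent.FgsSix.Frobenius

/-!
Frobenius' theorem for the roots of an element: the number of `x` with `x ^ n = c`, for `c`
central, is divisible by `gcd n |G|`; and for arbitrary `c` the number of `x` with `x ^ n`
conjugate to `c` is divisible by `gcd (h * n) |G|`, `h` the class size of `c`.
-/

namespace CfsgLib.PowerRoots

variable {G : Type*} [Group G] [Finite G]

/-- An exponent `n1` is the part of `n` on the primes of `e`. -/
theorem part_spec {n e : ℕ} (hn : 0 < n) (he : 0 < e) :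
    let n1 := Nat.gcd n (e ^ n)
    0 < n1 ∧ n1 ∣ n ∧ (e * n1).Coprime (n / n1) ∧
      ∀ k, k ∣ n1 → k.Coprime e → k = 1 := by
  intro n1
  have hn1 : 0 < n1 := Nat.gcd_pos_of_pos_left _ hn
  have hd : n1 ∣ n := Nat.gcd_dvd_left _ _
  refine ⟨hn1, hd, ?_, fun k hk hke => ?_⟩
  · refine Nat.coprime_of_dvd fun q hq hqe hq2 => ?_
    have hqe' : q ∣ e := by
      rcases hq.dvd_mul.1 hqe with h | h
      · exact h
      · exact hq.dvd_of_dvd_pow (h.trans (Nat.gcd_dvd_right _ _))
    have hfac : n1.factorization q = n.factorization q := by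
      change (Nat.gcd n (e ^ n)).factorization q = _
      rw [Nat.factorization_gcd hn.ne' (pow_ne_zero _ he.ne'), Finsupp.inf_apply,
        Nat.factorization_pow, Finsupp.smul_apply, smul_eq_mul, min_eq_left]
      have h1 : 1 ≤ e.factorization q := hq.factorization_pos_of_dvd he.ne' hqe'
      exact le_trans (Nat.factorization_lt q hn.ne').le (Nat.le_mul_of_pos_right _ h1)
    have h0 : n / n1 ≠ 0 := (Nat.div_pos (Nat.le_of_dvd hn hd) hn1).ne'
    have h3 := hq.factorization_pos_of_dvd h0 hq2
    have h4 : (n1 * (n / n1)).factorization q = n.factorization q := by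
      rw [Nat.mul_div_cancel' hd]
    rw [Nat.factorization_mul hn1.ne' h0, Finsupp.add_apply, hfac] at h4
    omega
  · exact Nat.Coprime.eq_one_of_dvd (Nat.Coprime.pow_right n hke) (hk.trans (Nat.gcd_dvd_right _ _))

/-- the class sums of a function constant on the generators of cyclic subgroups -/
theorem dvd_sum_of_zpowers {n : ℕ} (U : Finset G) (f : G → ℕ)
    (hf : ∀ u v : G, Subgroup.zpowers u = Subgroup.zpowers v → f u = f v)
    (hcard : ∀ u ∈ U, n ∣ Nat.card {v : G // v ∈ U ∧ Subgroup.zpowers v = Subgroup.zpowers u}) :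
    n ∣ ∑ u ∈ U, f u := by
  classical
  rw [← Finset.sum_fiberwise_of_maps_to
    (fun u hu => Finset.mem_image_of_mem Subgroup.zpowers hu)]
  refine Finset.dvd_sum fun c hc => ?_
  obtain ⟨u, hu, rfl⟩ := Finset.mem_image.1 hc
  rw [Finset.sum_const_nat (m := f u) (fun v hv => hf v u (Finset.mem_filter.1 hv).2)]
  refine dvd_mul_of_dvd_left ?_ _
  refine (hcard u hu).trans (dvd_of_eq ?_)
  rw [← Nat.card_eq_finsetCard]
  exact Nat.card_congr (Equiv.subtypeEquivRight fun v => by simp)

/-- If `c` is central, `gcd n |G|` divides the number of solutions of `x ^ n = c`. -/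
theorem gcd_dvd_card_pow_eq_central {c : G} (hc : c ∈ Subgroup.center G) {n : ℕ} (hn : 0 < n) :
    n.gcd (Nat.card G) ∣ Nat.card {x : G // x ^ n = c} := by
  classical
  haveI := Fintype.ofFinite G
  set e := orderOf c with he
  obtain ⟨hn1, hn1d, hcop, hpart⟩ := part_spec hn (orderOf_pos c)
  set n1 := Nat.gcd n (e ^ n) with hn1def
  set n2 := n / n1 with hn2def
  have hnn : n1 * n2 = n := Nat.mul_div_cancel' hn1d
  have hcop' : n1.Coprime n2 := Nat.Coprime.coprime_dvd_left (Dvd.intro_left _ rfl) hcop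
  have hord : ∀ u : G, u ^ (e * n1) = 1 → u ^ n = c → orderOf u = e * n1 := by
    intro u hu huc
    have ho : orderOf u ∣ e * n1 := orderOf_dvd_iff_pow_eq_one.2 hu
    set g := (orderOf u).gcd n with hg
    have hg0 : 0 < g := Nat.gcd_pos_of_pos_right _ hn
    have hgo : e * g = orderOf u := by
      rw [he, ← huc, orderOf_pow' u hn.ne']
      exact Nat.div_mul_cancel (Nat.gcd_dvd_left _ _)
    have hgn1 : g ∣ n1 := by
      have h1 : g.Coprime n2 := Nat.Coprime.coprime_dvd_left ((Nat.gcd_dvd_left _ _).trans ho) hcop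
      exact h1.dvd_of_dvd_mul_right (by rw [hnn]; exact Nat.gcd_dvd_right _ _)
    obtain ⟨k, hk⟩ := hgn1
    have hk1 : k = 1 := by
      refine hpart k (Dvd.intro_left _ hk.symm) ?_
      have h : g * Nat.gcd e (k * n2) = g * 1 := by
        rw [mul_one, ← Nat.gcd_mul_left]
        calc (g * e).gcd (g * (k * n2)) = (orderOf u).gcd n := by
              rw [mul_comm g e, hgo, ← mul_assoc, ← hk, hnn]
          _ = g := rfl
      have h' : Nat.Coprime e (k * n2) := Nat.eq_of_mul_eq_mul_left hg0 h
      exact (Nat.Coprime.coprime_dvd_right (dvd_mul_right _ _) h').symm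
    rw [← hgo, hk, hk1, mul_one]
  have hsame : Nat.card {x : G // x ^ n = c} =
      Nat.card {x : G // x ^ (e * n1 * n2) = 1 ∧ x ^ n = c} :=
    Nat.card_congr (Equiv.subtypeEquivRight fun x => by
      refine ⟨fun h => ⟨?_, h⟩, And.right⟩
      rw [mul_assoc, hnn, mul_comm, pow_mul, h, he, pow_orderOf_eq_one])
  rw [hsame, CfsgLib.FgsSix.card_split hcop (fun x => x ^ n = c) (fun u => u ^ n = c)]
  swap
  · intro u v huv _ hv
    rw [huv.mul_pow]
    have : v ^ n = 1 := by rw [← hnn, mul_comm, pow_mul, hv, one_pow]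
    rw [this, mul_one]
  set U := Finset.univ.filter (fun u : G => u ^ (e * n1) = 1 ∧ u ^ n = c) with hU
  refine Nat.dvd_trans (Nat.gcd_dvd_gcd_of_dvd_left _ (dvd_of_eq hnn.symm)) ?_
  refine Nat.dvd_trans (Nat.gcd_comm (n1 * n2) (Nat.card G) ▸ Nat.gcd_mul_right_dvd_mul_gcd (Nat.card G) n1 n2) ?_
  rw [Nat.gcd_comm (Nat.card G) n1, Nat.gcd_comm (Nat.card G) n2]
  refine Nat.Coprime.mul_dvd_of_dvd_of_dvd
    (Nat.Coprime.coprime_dvd_left (Nat.gcd_dvd_left _ _)
      (Nat.Coprime.coprime_dvd_right (Nat.gcd_dvd_left _ _) hcop')) ?_ ?_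
  · -- the part on the primes of `e`
    refine (Nat.gcd_dvd_left _ _).trans ?_
    refine dvd_sum_of_zpowers U _ ?_ ?_
    · intro u v huv
      refine Nat.card_congr (Equiv.subtypeEquivRight fun w => and_congr_left fun _ => ?_)
      have key : ∀ a b : G, a ∈ Subgroup.zpowers b → Commute b w → Commute a w := by
        intro a b hab h
        obtain ⟨i, rfl⟩ := Subgroup.mem_zpowers_iff.1 hab
        exact h.zpow_left i
      exact ⟨key v u (huv ▸ Subgroup.mem_zpowers v), key u v (huv ▸ Subgroup.mem_zpowers u)⟩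
    · intro u hu
      obtain ⟨hu1, hu2⟩ := (Finset.mem_filter.1 hu).2
      have ho := hord u hu1 hu2
      let π : Subgroup.zpowers u →* G :=
        { toFun := fun v => (v : G) ^ n
          map_one' := by simp
          map_mul' := fun a b => by
            have hab : Commute (a : G) (b : G) :=
              congrArg Subtype.val (IsMulCommutative.is_comm.comm a b)
            rw [Subgroup.coe_mul, hab.mul_pow] }
      have hker : Nat.card π.ker = n1 := by
        have h1 : π.range = Subgroup.zpowers c := by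
          ext y
          constructor
          · rintro ⟨⟨v, hv⟩, rfl⟩
            obtain ⟨i, rfl⟩ := Subgroup.mem_zpowers_iff.1 hv
            refine ⟨i, ?_⟩
            change c ^ i = (u ^ i) ^ n
            rw [← hu2, ← zpow_natCast, ← zpow_mul, ← zpow_natCast, ← zpow_mul, mul_comm]
          · rintro ⟨i, rfl⟩
            refine ⟨⟨u ^ i, i, rfl⟩, ?_⟩
            change (u ^ i) ^ n = c ^ i
            rw [← hu2, ← zpow_natCast, ← zpow_mul, ← zpow_natCast, ← zpow_mul, mul_comm]
        have h2 := Subgroup.card_mul_index π.ker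
        rw [Subgroup.index_ker, h1, Nat.card_zpowers, Nat.card_zpowers, ho, mul_comm] at h2
        exact Nat.eq_of_mul_eq_mul_left (orderOf_pos c) h2
      refine dvd_of_eq (hker.symm.trans (Nat.card_congr ?_))
      refine Equiv.ofBijective (fun k => ⟨u * ((k : Subgroup.zpowers u) : G), ?_, ?_⟩) ⟨?_, ?_⟩
      · have hk : ((k : Subgroup.zpowers u) : G) ^ n = 1 := k.2
        obtain ⟨i, hi⟩ := Subgroup.mem_zpowers_iff.1 (k : Subgroup.zpowers u).2
        have hcom : Commute u ((k : Subgroup.zpowers u) : G) := hi ▸ (Commute.refl u).zpow_right i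
        simp only [hU, Finset.mem_filter, Finset.mem_univ, true_and]
        refine ⟨?_, by rw [hcom.mul_pow, hu2, hk, mul_one]⟩
        rw [← orderOf_dvd_iff_pow_eq_one, ← ho]
        exact orderOf_dvd_of_mem_zpowers
          (Subgroup.mul_mem _ (Subgroup.mem_zpowers u) (k : Subgroup.zpowers u).2)
      · refine Subgroup.eq_of_le_of_card_ge ?_ ?_
        · exact Subgroup.zpowers_le.2
            (Subgroup.mul_mem _ (Subgroup.mem_zpowers u) (k : Subgroup.zpowers u).2)
        · rw [Nat.card_zpowers, Nat.card_zpowers, ho]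
          refine le_of_eq (hord _ ?_ ?_).symm
          · rw [← orderOf_dvd_iff_pow_eq_one, ← ho]
            exact orderOf_dvd_of_mem_zpowers
              (Subgroup.mul_mem _ (Subgroup.mem_zpowers u) (k : Subgroup.zpowers u).2)
          · obtain ⟨i, hi⟩ := Subgroup.mem_zpowers_iff.1 (k : Subgroup.zpowers u).2
            have hcom : Commute u ((k : Subgroup.zpowers u) : G) := hi ▸ (Commute.refl u).zpow_right i
            have hk : ((k : Subgroup.zpowers u) : G) ^ n = 1 := k.2
            rw [hcom.mul_pow, hu2, hk, mul_one]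
      · intro a b h
        have := congrArg Subtype.val h
        exact Subtype.ext (Subtype.ext (mul_left_cancel this))
      · rintro ⟨v, hvU, hv⟩
        obtain ⟨hv1, hv2⟩ := (Finset.mem_filter.1 hvU).2
        have hvm : v ∈ Subgroup.zpowers u := hv ▸ Subgroup.mem_zpowers v
        have hm : u⁻¹ * v ∈ Subgroup.zpowers u :=
          Subgroup.mul_mem _ (Subgroup.inv_mem _ (Subgroup.mem_zpowers u)) hvm
        refine ⟨⟨⟨u⁻¹ * v, hm⟩, ?_⟩, Subtype.ext (mul_inv_cancel_left u v)⟩
        obtain ⟨i, rfl⟩ := Subgroup.mem_zpowers_iff.1 hvm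
        change (u⁻¹ * u ^ i) ^ n = 1
        rw [((Commute.refl u).inv_left.zpow_right i).mul_pow, hv2, inv_pow, hu2, inv_mul_cancel]
  · -- the part prime to `e`
    refine CfsgLib.FgsSix.dvd_sum_of_conj_invariant _ _ _ ?_
      (fun u g => CfsgLib.FgsSix.card_commute_pow_conj n2 u g) ?_
    · intro u hu g
      simp only [hU, Finset.mem_filter, Finset.mem_univ, true_and, conj_pow, conj_eq_one_iff] at hu ⊢
      refine ⟨hu.1, ?_⟩
      rw [hu.2, (Subgroup.mem_center_iff.1 hc g), mul_inv_cancel_right]
    · intro u _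
      set C : Subgroup G := Subgroup.centralizer ({u} : Set G) with hC
      have hcount : Nat.card {v : G // Commute u v ∧ v ^ n2 = 1} = Nat.card {v : ↥C // v ^ n2 = 1} := by
        refine Nat.card_congr
          ⟨fun v => ⟨⟨v.1, Subgroup.mem_centralizer_singleton_iff.2 v.2.1.eq.symm⟩, Subtype.ext v.2.2⟩,
            fun v => ⟨v.1.1, (Subgroup.mem_centralizer_singleton_iff.1 v.1.2).symm,
              congrArg Subtype.val v.2⟩, fun v => rfl, fun v => rfl⟩
      rw [hcount]
      refine dvd_trans ?_ (Nat.mul_dvd_mul_left _ (CfsgLib.FgsSix.gcd_dvd_card_pow_eq_one n2))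
      rw [← Nat.gcd_mul_left, mul_comm C.index (Nat.card ↥C), Subgroup.card_mul_index]
      exact Nat.gcd_dvd_gcd_of_dvd_left _ (Dvd.intro_left _ rfl)

/-- The number of `x` with `x ^ n` conjugate to `c` is divisible by `gcd (h * n) |G|`. -/
theorem gcd_dvd_card_pow_isConj (c : G) (n : ℕ) :
    Nat.gcd (Nat.card {y : G // IsConj c y} * n) (Nat.card G) ∣
      Nat.card {x : G // IsConj c (x ^ n)} := by
  classical
  haveI := Fintype.ofFinite G
  -- make the exponent positive
  set m := n + Nat.card G with hm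
  have hpow : ∀ x : G, x ^ m = x ^ n := fun x => by rw [hm, pow_add, pow_card_eq_one', mul_one]
  have hg : Nat.gcd (Nat.card {y : G // IsConj c y} * n) (Nat.card G)
      = Nat.gcd (Nat.card {y : G // IsConj c y} * m) (Nat.card G) := by
    rw [hm, Nat.mul_add, Nat.gcd_add_mul_right_left]
  rw [hg]
  set C : Subgroup G := Subgroup.centralizer ({c} : Set G) with hC
  have hh : Nat.card {y : G // IsConj c y} = C.index := by
    have h1 := MulAction.index_stabilizer (ConjAct G) c
    rw [ConjAct.stabilizer_eq_centralizer, ConjAct.orbit_eq_carrier_conjClasses] at h1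
    refine Eq.trans ?_ h1.symm
    rw [← Nat.card_coe_set_eq]
    exact Nat.card_congr (Equiv.subtypeEquivRight fun y => by
      rw [ConjClasses.mem_carrier_iff_mk_eq, ConjClasses.mk_eq_mk_iff_isConj, isConj_comm])
  -- each fibre is as large as the one over `c`
  have hfib : ∀ y : {y : G // IsConj c y}, Nat.card {x : G // x ^ n = y.1}
      = Nat.card {x : G // x ^ n = c} := by
    rintro ⟨y, hy⟩
    obtain ⟨g, rfl⟩ := isConj_iff.1 hy
    refine Nat.card_congr ((MulAut.conj g).toEquiv.subtypeEquiv fun x => ?_).symm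
    simp only [MulEquiv.toEquiv_eq_coe, MulEquiv.coe_toEquiv, MulAut.conj_apply, conj_pow,
      mul_left_inj, mul_right_inj]
  have htot : Nat.card {x : G // IsConj c (x ^ n)}
      = Nat.card {y : G // IsConj c y} * Nat.card {x : G // x ^ n = c} := by
    rw [← Nat.card_congr (Equiv.sigmaSubtypeFiberEquivSubtype (fun x : G => x ^ n)
      (p := fun x => IsConj c (x ^ n)) (q := fun y => IsConj c y) (fun x => Iff.rfl)), Nat.card_sigma,
      Finset.sum_congr rfl fun y _ => hfib y, Finset.sum_const, Finset.card_univ,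
      ← Nat.card_eq_fintype_card, smul_eq_mul]
  rw [htot, hh]
  conv_lhs => rw [← Subgroup.card_mul_index C, mul_comm (Nat.card C), Nat.gcd_mul_left]
  refine Nat.mul_dvd_mul_left _ ?_
  have hcC : c ∈ C := Subgroup.mem_centralizer_singleton_iff.2 rfl
  have hcz : (⟨c, hcC⟩ : C) ∈ Subgroup.center C := Subgroup.mem_center_iff.2 fun x =>
    Subtype.ext (Subgroup.mem_centralizer_singleton_iff.1 x.2)
  have hG0 : 0 < Nat.card G := Nat.card_pos
  refine dvd_trans (gcd_dvd_card_pow_eq_central hcz (show 0 < m by omega)) (dvd_of_eq ?_)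
  refine Nat.card_congr
    { toFun := fun x => ⟨x.1.1, by rw [← hpow]; exact congrArg Subtype.val x.2⟩
      invFun := fun x => ⟨⟨x.1, Subgroup.mem_centralizer_singleton_iff.2 (by
          obtain ⟨v, hv⟩ := x
          exact (hv ▸ ((Commute.refl v).pow_right n).eq : v * c = c * v))⟩,
        Subtype.ext (by rw [Subgroup.coe_pow, hpow]; exact x.2)⟩
      left_inv := fun _ => rfl
      right_inv := fun _ => rfl }

end CfsgLib.PowerRoots
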